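import Mathlib.Data.Nat.Bitwise
import Mathlib.Data.ZMod.Basic
import Mathlib.Data.Matrix.Mul
import Mathlib.LinearAlgebra.Matrix.NonsingularInverse

/-!
Matrices over the field of five elements as lists of rows, a row being a number with lanes of 24
bits, and their products, for kernel computation.
-/

set_option autoImplicit false

namespace CfsgLib.Packed5

/-- the size of a lane -/
abbrev W : ℕ := 16777216

/-- the lane with number `k` -/
def lane : ℕ → ℕ → ℕ
  | v, 0 => v % W
  | v, k + 1 => lane (v / W) k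

/-- exactly `n` lanes, each below `B` -/
noncomputable def okV (B : ℕ) : ℕ → ℕ → Bool :=
  Nat.rec (motive := fun _ => ℕ → Bool) (fun v => Nat.beq v 0)
    fun _ k v => bif Nat.blt (Nat.mod v W) B then k (Nat.div v W) else false

theorem okV_zero (B v : ℕ) : okV B 0 v = Nat.beq v 0 := rfl

theorem okV_succ (B n v : ℕ) : okV B (n + 1) v = ((v % W).blt B && okV B n (v / W)) := by
  show (bif Nat.blt (Nat.mod v W) B then okV B n (Nat.div v W) else false) = _
  cases h : Nat.blt (v % W) B <;> simp_all <;> rfl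

/-- the mask of the quotient bits -/
def mask : ℕ → ℕ
  | 0 => 0
  | n + 1 => 1023 + W * mask n

/-- all lanes divided by five -/
def quo (msk v : ℕ) : ℕ := Nat.land (Nat.shiftRight (Nat.mul v 3277) 14) msk

/-- all lanes reduced -/
def red (msk v : ℕ) : ℕ := Nat.sub v (Nat.mul 5 (quo msk v))

/-- the combination of rows with the lanes of the number as coefficients -/
noncomputable def comb (P : List ℕ) : ℕ → ℕ :=
  List.rec (motive := fun _ => ℕ → ℕ) (fun _ => 0)
    (fun p _ k v => Nat.add (Nat.mul (Nat.mod v W) p) (k (Nat.div v W))) P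

theorem comb_nil (v : ℕ) : comb [] v = 0 := rfl

theorem comb_cons (p : ℕ) (P : List ℕ) (v : ℕ) :
    comb (p :: P) v = (v % W) * p + comb P (v / W) := rfl

/-- one row of a product -/
noncomputable def vm (msk : ℕ) (P : List ℕ) (v : ℕ) : ℕ := red msk (comb P v)

theorem quo_small : ((List.range 4096).all fun x => Nat.beq ((x * 3277) / 16384) (x / 5)) = true := by
  decide +kernel

theorem okV_le {B B' : ℕ} (hB : B ≤ B') : ∀ {n v : ℕ}, okV B n v = true → okV B' n v = true
  | 0, _, h => h
  | n + 1, v, h => by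
    simp only [okV_succ, Bool.and_eq_true, Nat.blt, Nat.ble_eq] at h ⊢
    exact ⟨by omega, okV_le hB h.2⟩

theorem quo_arith (x a q : ℕ) (hq : x * 3277 / 16384 = q) (hx : q < 1024) :
    ((x + 16777216 * a) * 3277 / 16384) % 1024 = q ∧
      ((x + 16777216 * a) * 3277 / 16384) / 16777216 = a * 3277 / 16384 := by
  have e : (x + 16777216 * a) * 3277 / 16384 = q + 1024 * (3277 * a) := by
    rw [show (x + 16777216 * a) * 3277 = x * 3277 + 16384 * (1024 * (3277 * a)) by ring,
      Nat.add_mul_div_left _ _ (by norm_num : 0 < 16384), hq]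
  rw [e, Nat.mul_comm a 3277]
  refine ⟨by omega, ?_⟩
  rw [show (16777216 : ℕ) = 1024 * 16384 by norm_num, ← Nat.div_div_eq_div_mul,
    Nat.add_mul_div_left _ _ (by norm_num : 0 < 1024), Nat.div_eq_of_lt hx, Nat.zero_add]

theorem land_split (y b : ℕ) :
    Nat.land y (1023 + 16777216 * b) = y % 1024 + 16777216 * ((y / 16777216) &&& b) := by
  rw [show (1024 : ℕ) = 2 ^ 10 by norm_num, show (16777216 : ℕ) = 2 ^ 24 by norm_num]
  apply Nat.eq_of_testBit_eq
  intro i
  have e1 : 1023 + 2 ^ 24 * b = 2 ^ 24 * b + 1023 := Nat.add_comm _ _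
  have e2 : y % 2 ^ 10 + 2 ^ 24 * ((y / 2 ^ 24) &&& b) =
      2 ^ 24 * ((y / 2 ^ 24) &&& b) + y % 2 ^ 10 := Nat.add_comm _ _
  show (y &&& (1023 + 2 ^ 24 * b)).testBit i = _
  rw [e2, Nat.testBit_two_pow_mul_add _ (by omega : y % 2 ^ 10 < 2 ^ 24), e1,
    Nat.testBit_and, Nat.testBit_two_pow_mul_add _ (by norm_num : 1023 < 2 ^ 24)]
  split_ifs with hi
  · rw [show (1023 : ℕ) = 2 ^ 10 - 1 from rfl, Nat.testBit_two_pow_sub_one,
      Nat.testBit_mod_two_pow, Bool.and_comm]
  · rw [Nat.testBit_and, Nat.testBit_div_two_pow, Nat.sub_add_cancel (not_lt.1 hi)]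

theorem red_spec : ∀ {n v : ℕ}, okV 4096 n v = true →
    okV 5 n (red (mask n) v) = true ∧ quo (mask n) v * 5 ≤ v ∧
      ∀ k, lane (red (mask n) v) k = lane v k % 5
  | 0, v, h => by
    have : v = 0 := Nat.eq_of_beq_eq_true h
    subst this
    refine ⟨rfl, by simp [quo, mask], fun k => ?_⟩
    have hz : ∀ k, lane 0 k = 0 := by
      intro k
      induction k with
      | zero => rfl
      | succ k ih => rw [lane, Nat.zero_div, ih]
    show lane (0 - 5 * (Nat.land _ 0)) k = _
    rw [Nat.zero_sub, hz]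
  | n + 1, v, h => by
    simp only [okV_succ, Bool.and_eq_true, Nat.blt, Nat.ble_eq] at h
    obtain ⟨hx, hr⟩ := h
    obtain ⟨ihok, ihle, ihl⟩ := red_spec hr
    have hq : (v % W * 3277) / 16384 = v % W / 5 :=
      Nat.eq_of_beq_eq_true (List.all_eq_true.1 quo_small _ (List.mem_range.2 (by omega)))
    have hsplit : quo (mask (n + 1)) v = v % W / 5 + W * quo (mask n) (v / W) := by
      show Nat.land ((v * 3277) >>> 14) (1023 + W * mask n) = _
      rw [Nat.shiftRight_eq_div_pow, show (2 : ℕ) ^ 14 = 16384 by norm_num]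
      obtain ⟨hlow', hhi'⟩ := quo_arith (v % W) (v / W) _ hq (by omega)
      have hv : v % W + W * (v / W) = v := Nat.mod_add_div v W
      rw [show (16777216 : ℕ) = W from rfl, hv] at hlow' hhi'
      rw [show (1023 + W * mask n) = 1023 + 16777216 * mask n from rfl, land_split, hlow', hhi']
      show _ = _ + W * (Nat.land ((v / W * 3277) >>> 14) (mask n))
      rw [Nat.shiftRight_eq_div_pow, show (2 : ℕ) ^ 14 = 16384 by norm_num]
      rfl
    have hle : quo (mask (n + 1)) v * 5 ≤ v := by
      rw [hsplit]; simp only [W] at *; omega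
    have hred : red (mask (n + 1)) v = v % W % 5 + W * red (mask n) (v / W) := by
      show v - 5 * quo (mask (n + 1)) v = _ + W * (v / W - 5 * quo (mask n) (v / W))
      rw [hsplit]; simp only [W] at *; omega
    have hdiv : red (mask (n + 1)) v / W = red (mask n) (v / W) := by
      rw [hred]; simp only [W] at *; omega
    have hmod : red (mask (n + 1)) v % W = v % W % 5 := by
      rw [hred]; simp only [W] at *; omega
    refine ⟨?_, hle, fun k => ?_⟩
    · simp only [okV_succ, Bool.and_eq_true, Nat.blt, Nat.ble_eq, hdiv, hmod]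
      exact ⟨by omega, ihok⟩
    · cases k with
      | zero => exact hmod
      | succ k => rw [lane, lane, hdiv, ihl]

theorem okV_mul_add {B C : ℕ} : ∀ {n : ℕ} {c p q : ℕ}, c < 5 → okV 5 n p = true →
    okV B n q = true → B + 16 ≤ C → C ≤ 4096 → okV C n (c * p + q) = true ∧
      ∀ k, lane (c * p + q) k = c * lane p k + lane q k
  | 0, c, p, q, _, hp, hq, _, _ => by
    rw [Nat.eq_of_beq_eq_true hp, Nat.eq_of_beq_eq_true hq, Nat.mul_zero, Nat.add_zero]
    refine ⟨rfl, fun k => ?_⟩
    have hz : ∀ k, lane 0 k = 0 := by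
      intro k
      induction k with
      | zero => rfl
      | succ k ih => rw [lane, Nat.zero_div, ih]
    rw [hz, Nat.mul_zero]
  | n + 1, c, p, q, hc, hp, hq, hBC, hC => by
    simp only [okV_succ, Bool.and_eq_true, Nat.blt, Nat.ble_eq] at hp hq
    have hb : c * (p % W) ≤ 16 := Nat.mul_le_mul (by omega : c ≤ 4) (by omega : p % W ≤ 4)
    have hmod : (c * p + q) % W = c * (p % W) + q % W := by
      rw [Nat.add_mod, Nat.mul_mod, Nat.mod_eq_of_lt (show c < W by simp only [W]; omega),
        Nat.mod_eq_of_lt (lt_of_le_of_lt hb (by norm_num)),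
        Nat.mod_eq_of_lt (lt_of_lt_of_le (show c * (p % W) + q % W < C by omega) (le_trans hC (by norm_num)))]
    have hdiv : (c * p + q) / W = c * (p / W) + q / W := by
      have e : c * p + q = W * (c * (p / W) + q / W) + (c * (p % W) + q % W) := by
        conv_lhs => rw [← Nat.div_add_mod p W, ← Nat.div_add_mod q W]
        ring
      rw [e, Nat.mul_add_div (by norm_num), Nat.div_eq_of_lt
        (lt_of_lt_of_le (show c * (p % W) + q % W < C by omega) (le_trans hC (by norm_num))),
        Nat.add_zero]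
    obtain ⟨ih1, ih2⟩ := okV_mul_add hc hp.2 hq.2 hBC hC
    refine ⟨?_, fun k => ?_⟩
    · simp only [okV_succ, Bool.and_eq_true, Nat.blt, Nat.ble_eq, hmod, hdiv]
      exact ⟨by omega, ih1⟩
    · cases k with
      | zero => exact hmod
      | succ k => rw [lane, lane, lane, hdiv, ih2]

theorem comb_spec {n : ℕ} : ∀ (P : List ℕ) (v : ℕ), 16 * P.length < 4096 →
    (∀ p ∈ P, okV 5 n p = true) → okV 5 P.length v = true →
    okV (16 * P.length + 1) n (comb P v) = true ∧
      ∀ k, lane (comb P v) k = ∑ i ∈ Finset.range P.length, lane v i * lane (P.getD i 0) k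
  | [], v, _, _, _ => by
    refine ⟨?_, fun k => ?_⟩
    · rw [comb_nil]
      clear * -
      induction n with
      | zero => rfl
      | succ n ih => simp only [okV_succ, Nat.zero_mod, Nat.zero_div, ih, Bool.and_true]; rfl
    · rw [comb_nil]
      have hz : ∀ k, lane 0 k = 0 := by
        intro k
        induction k with
        | zero => rfl
        | succ k ih => rw [lane, Nat.zero_div, ih]
      simp [hz]
  | p :: P, v, hlen, hP, hv => by
    simp only [List.length_cons, okV_succ, Bool.and_eq_true, Nat.blt, Nat.ble_eq] at hv hlen ⊢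
    obtain ⟨h1, h2⟩ := comb_spec P (v / W) (by omega)
      (fun q hq => hP q (List.mem_cons_of_mem _ hq)) hv.2
    obtain ⟨h3, h4⟩ := okV_mul_add (C := 16 * (P.length + 1) + 1) (c := v % W) (by omega)
      (hP p List.mem_cons_self) h1 (by omega) (by omega)
    refine ⟨by rw [comb_cons]; exact h3, fun k => ?_⟩
    rw [comb_cons, h4, h2, Finset.sum_range_succ', Nat.add_comm]
    rfl

/-- a square list of rows -/
noncomputable def okM (n : ℕ) (A : List ℕ) : Bool := Nat.beq A.length n && A.all fun v => okV 5 n v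

/-- the matrix of a list of rows -/
def toM (n : ℕ) (A : List ℕ) : Matrix (Fin n) (Fin n) (ZMod 5) :=
  Matrix.of fun i j => ((lane (A.getD i.val 0) j.val : ℕ) : ZMod 5)

/-- the product -/
noncomputable def mulL (msk : ℕ) (A P : List ℕ) : List ℕ := A.map (vm msk P)

theorem mulL_spec {n : ℕ} (hn : 16 * n < 4096) {A P : List ℕ} (hA : okM n A = true)
    (hP : okM n P = true) :
    okM n (mulL (mask n) A P) = true ∧ toM n (mulL (mask n) A P) = toM n A * toM n P := by
  simp only [okM, Bool.and_eq_true, List.all_eq_true] at hA hP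
  have hAl := Nat.eq_of_beq_eq_true hA.1
  have hPl := Nat.eq_of_beq_eq_true hP.1
  have key : ∀ v, okV 5 n v = true → okV 5 n (vm (mask n) P v) = true ∧
      ∀ k, lane (vm (mask n) P v) k =
        (∑ i ∈ Finset.range n, lane v i * lane (P.getD i 0) k) % 5 := by
    intro v hv
    obtain ⟨h1, h2⟩ := comb_spec (n := n) P v (hPl ▸ hn) hP.2 (hPl.symm ▸ hv)
    obtain ⟨h3, -, h4⟩ := red_spec (okV_le (by omega) h1)
    exact ⟨h3, fun k => by rw [vm, h4, h2, hPl]⟩
  refine ⟨?_, ?_⟩
  · simp only [okM, mulL, Bool.and_eq_true, List.all_eq_true, List.length_map, List.mem_map]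
    refine ⟨hA.1, ?_⟩
    rintro w ⟨v, hv, rfl⟩
    exact (key v (hA.2 v hv)).1
  · refine Matrix.ext fun i j => ?_
    have hi : i.val < A.length := hAl ▸ i.isLt
    rw [Matrix.mul_apply]
    simp only [toM, Matrix.of_apply, mulL]
    rw [List.getD_eq_getElem _ _ (by simpa using hi), List.getElem_map,
      (key _ (hA.2 _ (List.getElem_mem hi))).2, ZMod.natCast_mod, Nat.cast_sum,
      Finset.sum_range]
    refine Finset.sum_congr rfl fun k _ => ?_
    rw [Nat.cast_mul, List.getD_eq_getElem _ _ hi]

/-- the identity, from row `i` on -/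
def idFrom : ℕ → ℕ → List ℕ
  | _, 0 => []
  | v, m + 1 => v :: idFrom (W * v) m

/-- the identity -/
def idL (n : ℕ) : List ℕ := idFrom 1 n

/-- a row times the matrices of a word, from left to right -/
noncomputable def act (msk : ℕ) (mats : ℕ → List ℕ) : List ℕ → ℕ → ℕ
  | [], v => v
  | c :: w, v => act msk mats w (vm msk (mats c) v)

/-- the rows of the product of a word -/
noncomputable def wordL (n : ℕ) (mats : ℕ → List ℕ) (w : List ℕ) : List ℕ :=
  (idL n).map (act (mask n) mats w)

theorem act_spec {n : ℕ} (hn : 16 * n < 4096) {G : Type*} [Monoid G]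
    (f : G →* Matrix (Fin n) (Fin n) (ZMod 5)) (g : ℕ → G) (mats : ℕ → List ℕ) :
    ∀ (w : List ℕ) (A : List ℕ), okM n A = true →
    (∀ c ∈ w, okM n (mats c) = true ∧ f (g c) = toM n (mats c)) →
    okM n (A.map (act (mask n) mats w)) = true ∧
      toM n (A.map (act (mask n) mats w)) = toM n A * f ((w.map g).prod)
  | [], A, hA, _ => by
    have e : A.map (act (mask n) mats []) = A := List.map_id A
    rw [e, List.map_nil, List.prod_nil, map_one, mul_one]
    exact ⟨hA, rfl⟩
  | c :: w, A, hA, h => by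
    obtain ⟨h3, h4⟩ := h c List.mem_cons_self
    obtain ⟨h5, h6⟩ := mulL_spec hn hA h3
    obtain ⟨h1, h2⟩ := act_spec hn f g mats w (mulL (mask n) A (mats c)) h5
      fun d hd => h d (List.mem_cons_of_mem _ hd)
    have e : A.map (act (mask n) mats (c :: w)) =
        (mulL (mask n) A (mats c)).map (act (mask n) mats w) := by
      rw [mulL, List.map_map]; rfl
    rw [e, List.map_cons, List.prod_cons, map_mul, ← mul_assoc, h4, ← h6]
    exact ⟨h1, h2⟩

theorem wordL_spec {n : ℕ} (hn : 16 * n < 4096) {G : Type*} [Monoid G]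
    (f : G →* Matrix (Fin n) (Fin n) (ZMod 5)) (g : ℕ → G) (mats : ℕ → List ℕ)
    (hone : okM n (idL n) = true ∧ toM n (idL n) = 1) (w : List ℕ)
    (h : ∀ c ∈ w, okM n (mats c) = true ∧ f (g c) = toM n (mats c)) :
    okM n (wordL n mats w) = true ∧ toM n (wordL n mats w) = f ((w.map g).prod) := by
  obtain ⟨h1, h2⟩ := act_spec hn f g mats w (idL n) hone.1 h
  exact ⟨h1, by rw [wordL, h2, hone.2, one_mul]⟩

end CfsgLib.Packed5
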